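import Cfsg.Agent.Lib.RuTits.Defs

/-!
Kernel check of the two halves.
-/

set_option autoImplicit false
set_option maxRecDepth 100000

namespace Cfsg.Agent.RuTits

open Cfsg.Agent.RuAut

theorem halves_k : (kw2 ++ kw3 ++ kw4).all (fun w => imgIn (tapp w) halfA halfA && imgIn (tapp w) halfB halfB) = true := by
  decide +kernel

theorem halves_swap : imgIn (app (gw2.getD swapAt [])) halfA halfB = true ∧
    imgIn (app (gw2.getD swapAt [])) halfB halfA = true := by
  decide +kernel

theorem halves_misc : halfA &&& halfB = 0 ∧ has halfA halfPoint = true ∧ swapAt < gw2.length ∧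
    halfA ||| orb1 = orb1 ∧ halfB ||| orb1 = orb1 ∧
    cntB 6 (has halfA) 0 16240 = 512 ∧ cntB 6 (has halfB) 0 16240 = 512 := by decide +kernel

end Cfsg.Agent.RuTits
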