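import Cfsg.Agent.Lib.RuTits.Defs

/-!
Kernel check of the transversal.
-/

set_option autoImplicit false
set_option maxRecDepth 100000

namespace Cfsg.Agent.RuTits

open Cfsg.Agent.RuAut

theorem path_ok : allB 6 pathOK 0 7020 = true := by decide +kernel

theorem tword_ok : tWord.all (fun w => w.all fun a => decide (a < 12)) = true ∧ tWord.length = 4 ∧
    ∀ a : Fin 2, ∀ j : Fin 5, (app (tWord.getD a.val []))^[13] (baseL.getD j.val 0) = baseL.getD j.val 0 := by
  decide +kernel

theorem t_fix_zero : ∀ a : Fin 2, ttab a.val 0 = 0 := by decide +kernel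

end Cfsg.Agent.RuTits
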