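import Cfsg.Agent.Lib.RuTits.Defs

/-!
Kernel check of the transversal.
-/

set_option autoImplicit false
set_option maxRecDepth 100000

namespace Cfsg.Agent.RuTits

open Cfsg.Agent.RuAut

theorem schreier_ok_1 : allB 6 (schreierOK 1) 0 7020 = true := by decide +kernel

end Cfsg.Agent.RuTits
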