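import Cfsg.Agent.Lib.RuTits.Defs

/-!
Kernel checks of the trees, classes and profiles.
-/

set_option autoImplicit false
set_option maxRecDepth 100000

namespace Cfsg.Agent.RuTits

open Cfsg.Agent.RuAut

theorem kw2_ok : kw2.all (fun w => w.all fun a => decide (a < 4)) = true ∧
    gwOK 2 (kw2.map expandW) = true ∧ allB 3 (edgeOK (kw2.map expandW) kedge2) 0 320 = true ∧
    orB 3 (fun i => 1 <<< ept kedge2 i) 0 320 = korb2 ∧ cntB 6 (has korb2) 0 16240 = 320 ∧
    ept kedge2 0 = baseL.getD 2 0 := by decide +kernel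

theorem kw3_ok : kw3.all (fun w => w.all fun a => decide (a < 4)) = true ∧
    gwOK 3 (kw3.map expandW) = true ∧ allB 0 (edgeOK (kw3.map expandW) kedge3) 0 4 = true ∧
    orB 0 (fun i => 1 <<< ept kedge3 i) 0 4 = korb3 ∧ cntB 6 (has korb3) 0 16240 = 4 ∧
    ept kedge3 0 = baseL.getD 3 0 := by decide +kernel

theorem kw4_ok : kw4.all (fun w => w.all fun a => decide (a < 4)) = true ∧
    gwOK 4 (kw4.map expandW) = true ∧ allB 0 (edgeOK (kw4.map expandW) kedge4) 0 2 = true ∧
    orB 0 (fun i => 1 <<< ept kedge4 i) 0 2 = korb4 ∧ cntB 6 (has korb4) 0 16240 = 2 ∧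
    ept kedge4 0 = baseL.getD 4 0 := by decide +kernel

theorem tedge_mask : orB 6 (fun i => 1 <<< ept tedge i) 0 7020 = orb1 ∧ ept tedge 0 = baseL.getD 1 0 := by
  decide +kernel

theorem line_ok : lineW.all (fun w => decide (w = [4]) ||
      (w.all (fun a => decide (a < 4)) && has scalM (tapp w (baseL.getD 1 0)))) = true ∧
    allB 0 (tEdgeOK lineW sedge) 0 4 = true ∧ orB 0 (fun i => 1 <<< ept sedge i) 0 4 = scalM ∧
    ept sedge 0 = baseL.getD 1 0 ∧
    (tab 0)^[4] (baseL.getD 1 0) = baseL.getD 1 0 := by decide +kernel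

theorem cls_ok : allB 5 (tEdgeOK lineW cedge0) 0 2560 = true ∧ allB 5 (tEdgeOK lineW cedge1) 0 4096 = true ∧
    allB 3 (tEdgeOK lineW cedge2) 0 320 = true ∧ allB 2 (tEdgeOK lineW cedge3) 0 40 = true ∧
    orB 5 (fun i => 1 <<< ept cedge0 i) 0 2560 = cls0 ∧ orB 5 (fun i => 1 <<< ept cedge1 i) 0 4096 = cls1 ∧
    orB 3 (fun i => 1 <<< ept cedge2 i) 0 320 = cls2 ∧ orB 2 (fun i => 1 <<< ept cedge3 i) 0 40 = cls3 := by
  decide +kernel

theorem cls_cover : clsSel 15 = orb1 := by decide +kernel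

theorem cls_sizes : ∀ f : Fin 16, f.val = 0 ∨ f.val = 15 ∨
    ¬ (7020 % cntB 6 (has (clsSel f.val)) 0 16240 = 0) := by decide +kernel

theorem cls_size_zero : cntB 6 (has (clsSel 0)) 0 16240 = 4 := by decide +kernel

theorem class_key : allB 6 classKey 0 16240 = true := by decide +kernel

theorem prof_ok : allB 6 profOK 0 16240 = true ∧ profL.all (fun a => has orb1 a) = true := by decide +kernel

theorem scal_sub : ∀ i : Fin 4, ∃ e : Fin 4, ept sedge i.val = (tab 0)^[e.val] (baseL.getD 1 0) := by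
  decide +kernel

end Cfsg.Agent.RuTits
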