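import Cfsg.Agent.Lib.RuAut.Orbit
import Cfsg.Agent.Lib.RuTits.Data

/-!
Functions for the subgroup of index two in a point stabiliser.
-/

set_option autoImplicit false
set_option maxRecDepth 100000

noncomputable section

namespace Cfsg.Agent.RuTits

open Cfsg.Agent.RuAut Cfsg.Agent.CosetCert

/-- The five short letters: two elements, their inverses and the scalar. -/
def ttab (a x : ℕ) : ℕ :=
  cond (Nat.beq a 4) (tab 0 x)
    (Nat.land (Nat.shiftRight (ttabT.get (Nat.shiftRight x 4))
      (Nat.add (Nat.mul 56 (Nat.land x 15)) (Nat.mul 14 a))) 16383)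

/-- A word in them acts, last letter first. -/
def tapp (w : List ℕ) (x : ℕ) : ℕ := w.foldr ttab x

/-- The position of a point in the tree. -/
def tpos (x : ℕ) : ℕ := (tposT.get (x >>> 4) >>> (14 * (x &&& 15))) &&& 16383

/-- The parent of an edge. -/
def tpar (i : ℕ) : ℕ := (edge tedge i >>> 14) &&& 16383

/-- The letter of an edge. -/
def tlet (i : ℕ) : ℕ := edge tedge i >>> 28

/-- The transversal element of an edge acts. -/
def up : ℕ → ℕ → ℕ → ℕ
  | 0, _, z => z
  | d + 1, i, z => cond (Nat.beq i 0) z (ttab (tlet i) (up d (tpar i) z))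

/-- Its inverse acts. -/
def down : ℕ → ℕ → ℕ → ℕ
  | 0, _, z => z
  | d + 1, i, z => cond (Nat.beq i 0) z (down d (tpar i) (ttab (tlet i + 2) z))

/-- An edge joins earlier to later by one of the two elements, within the depth. -/
def depthOK : ℕ → ℕ → Bool
  | 0, i => Nat.beq i 0
  | d + 1, i => Nat.beq i 0 || (Nat.blt (tlet i) 2 && Nat.blt (tpar i) i &&
      Nat.beq (ttab (tlet i) (ept tedge (tpar i))) (ept tedge i) && depthOK d (tpar i))

/-- The check at one edge. -/
def pathOK (i : ℕ) : Bool := depthOK tDepth i && Nat.beq (tpos (ept tedge i)) i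

/-- The check of one letter at one edge. -/
def schreierOK (a i : ℕ) : Bool :=
  force' (tpos (ttab a (ept tedge i))) fun j =>
    Nat.blt j 7020 && Nat.beq (ept tedge j) (ttab a (ept tedge i)) &&
      has halfA (down tDepth j (ttab a (up tDepth i halfPoint)))
where
  /-- Evaluate a number before it is used. -/
  force' (n : ℕ) (k : ℕ → Bool) : Bool :=
    match n with
    | 0 => k 0
    | m + 1 => k (m + 1)

/-- One table agrees with its word and is inverted, on the orbit of the second base point. -/
def tableOK (a x : ℕ) : Bool :=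
  !has orb1 x || (Nat.beq (app (tWord.getD a []) x) (ttab a x) &&
    force'' (ttab (a + 2) x) fun y => Nat.blt y NV && has orb1 y && Nat.beq (ttab a y) x)
where
  /-- Evaluate a number before it is used. -/
  force'' (n : ℕ) (k : ℕ → Bool) : Bool :=
    match n with
    | 0 => k 0
    | m + 1 => k (m + 1)

/-- Replace the short letters by their words. -/
def expandW (w : List ℕ) : List ℕ := w.flatMap fun a => tWord.getD a []

/-- A map sends one set into another. -/
def imgIn (f : ℕ → ℕ) (m m' : ℕ) : Bool :=
  allB 6 (fun x => !has m x || has m' (f x)) 0 16240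

/-- An edge of a tree of words in the short letters. -/
def tEdgeOK (gw : List (List ℕ)) (t : Tree) (i : ℕ) : Bool :=
  Nat.beq i 0 ||
    (Nat.blt ((edge t i >>> 14) &&& 16383) i && Nat.blt (edge t i >>> 28) gw.length &&
      Nat.beq (tapp (gw.getD (edge t i >>> 28) []) (ept t ((edge t i >>> 14) &&& 16383))) (ept t i))

/-- A union of classes of lines. -/
def clsSel (f : ℕ) : ℕ :=
  scalM ||| cond (Nat.beq (f &&& 1) 1) cls0 0 ||| cond (Nat.beq ((f >>> 1) &&& 1) 1) cls1 0 |||
    cond (Nat.beq ((f >>> 2) &&& 1) 1) cls2 0 ||| cond (Nat.beq ((f >>> 3) &&& 1) 1) cls3 0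

/-- The squared inner product with a vector up to scalars. -/
def prof (a z : ℕ) : ℤ := dotS a z * dotS a z + dotS (tab 0 a) z * dotS (tab 0 a) z

/-- The coordinates at the first base point are those of the class. -/
def classKey (x : ℕ) : Bool :=
  !(decide (dotS 0 x = dotS 0 classRoot) && decide (dotS (tab 0 0) x = dotS (tab 0 0) classRoot)) || has orbC x

/-- The profile determines the root in its class. -/
def profOK (x : ℕ) : Bool :=
  !has orbC x || Nat.beq x classRoot || profL.any fun a => !decide (prof a x = prof a classRoot)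

end Cfsg.Agent.RuTits
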