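import Cfsg.Agent.Lib.RuAut.Simple
import Cfsg.Agent.Lib.RuTits.CheckTab0
import Cfsg.Agent.Lib.RuTits.CheckTab1
import Cfsg.Agent.Lib.RuTits.CheckPath
import Cfsg.Agent.Lib.RuTits.CheckSchreier0
import Cfsg.Agent.Lib.RuTits.CheckSchreier1
import Cfsg.Agent.Lib.RuTits.CheckHalves
import Cfsg.Agent.Lib.RuTits.CheckTrees

/-!
A subgroup of index two in the stabiliser of a short vector of the Rudvalis lattice.
-/

set_option autoImplicit false
set_option maxRecDepth 100000

noncomputable section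

namespace Cfsg.Agent.RuTits

open Cfsg.Spor Cfsg.Agent.RuAut Cfsg.Agent.CosetCert
open scoped Pointwise

theorem force_schreier (n : ℕ) (k : ℕ → Bool) : schreierOK.force' n k = k n := by cases n <;> rfl

theorem force_table (n : ℕ) (k : ℕ → Bool) : tableOK.force'' n k = k n := by cases n <;> rfl

/-- Counting with an orbit. -/
theorem card_orbit_mul {α : Type*} [MulAction fourRu α] (H : Subgroup fourRu) (x : α) :
    (MulAction.orbit H x).ncard * Nat.card (H ⊓ MulAction.stabilizer fourRu x : Subgroup fourRu) = Nat.card H := by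
  have e := Subgroup.card_mul_index (MulAction.stabilizer H x)
  have hs : MulAction.stabilizer H x = (MulAction.stabilizer fourRu x).subgroupOf H := by
    ext g; simp [Subgroup.mem_subgroupOf, Subgroup.smul_def]
  have hc : Nat.card (MulAction.stabilizer H x) =
      Nat.card (H ⊓ MulAction.stabilizer fourRu x : Subgroup fourRu) := by
    rw [hs, inf_comm, ← Subgroup.inf_subgroupOf_right]
    exact Nat.card_congr (Subgroup.subgroupOfEquivOfLe inf_le_right).toEquiv
  rw [← MulAction.index_stabilizer, ← hc, mul_comm]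
  exact e

theorem stab_succ (k : ℕ) : stab (k + 1) = stab k ⊓ MulAction.stabilizer fourRu (baseI k) := rfl

theorem stab_le : ∀ {i j : ℕ}, i ≤ j → stab j ≤ stab i := fun {i j} h g hg =>
  mem_stab.2 fun k hk => mem_stab.1 hg k (lt_of_lt_of_le hk h)

theorem finite_sub (H : Subgroup fourRu) : Finite H := by
  haveI : Finite fourRu := Nat.finite_of_card_ne_zero (by rw [card_fourRu]; norm_num)
  infer_instance

/-- The set of a mask. -/
def maskSet (m : ℕ) : Set (Fin NV) := {x | has m x = true}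

theorem maskSet_ncard (m : ℕ) : (maskSet m).ncard = (List.range' 0 16240).countP (has m) := by
  rw [← card_mask m]
  exact (Nat.card_coe_set_eq _).symm

theorem maskSet_ncard' {m s : ℕ} (h : cntB 6 (has m) 0 16240 = s) : (maskSet m).ncard = s := by
  rw [maskSet_ncard, ← cntB_eq 6, h]

theorem orb1_smul {g : fourRu} (hg : g ∈ stab 1) {x : Fin NV} (hx : has orb1 x = true) :
    has orb1 (g • x : Fin NV) = true := by
  obtain ⟨h, hh, rfl⟩ := level1.reach x hx
  rw [← mul_smul]
  exact level1.only _ ((stab 1).mul_mem hg hh.1)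

theorem orb1_base : has orb1 (baseI 1 : Fin NV) = true := by
  simpa using level1.only 1 (one_mem _)

/-! ### The short letters -/

/-- The two elements, their inverses and the scalar. -/
def tE : ℕ → fourRu
  | 0 => wd (tWord.getD 0 [])
  | 1 => wd (tWord.getD 1 [])
  | 2 => (wd (tWord.getD 0 []))⁻¹
  | 3 => (wd (tWord.getD 1 []))⁻¹
  | _ => iElt

theorem tWord_lt {a : ℕ} : ∀ b ∈ tWord.getD a [], b < 12 := fun b hb => by
  by_cases h : a < tWord.length
  · rw [List.getD_eq_getElem _ _ h] at hb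
    exact of_decide_eq_true (List.all_eq_true.1 (List.all_eq_true.1 tword_ok.1 _ (List.getElem_mem _)) b hb)
  · rw [List.getD_eq_default _ _ (not_lt.1 h)] at hb; simp at hb

theorem table_at {a : ℕ} (ha : a < 2) {x : Fin NV} (hx : has orb1 x = true) :
    app (tWord.getD a []) x = ttab a x ∧ ∃ h : ttab (a + 2) x < NV,
      has orb1 (⟨ttab (a + 2) x, h⟩ : Fin NV) = true ∧ ttab a (ttab (a + 2) x) = x.val := by
  have h : tableOK a x = true := by
    interval_cases a
    · exact allB_spec _ _ _ _ table_ok_0 x (Nat.zero_le _) (by have := x.isLt; show _ < 0 + NV; omega)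
    · exact allB_spec _ _ _ _ table_ok_1 x (Nat.zero_le _) (by have := x.isLt; show _ < 0 + NV; omega)
  simp only [tableOK, force_table, hx, Bool.not_true, Bool.false_or, Bool.and_eq_true] at h
  exact ⟨Nat.eq_of_beq_eq_true h.1, blt_true h.2.1.1, h.2.1.2, Nat.eq_of_beq_eq_true h.2.2⟩

theorem tE_idx_lo {a : ℕ} (ha : a < 2) {x : Fin NV} (hx : has orb1 x = true) :
    (tE a • x : Fin NV).val = ttab a x := by
  have e : tE a = wd (tWord.getD a []) := by interval_cases a <;> rfl
  rw [e, wd_idx tWord_lt]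
  exact (table_at ha hx).1

theorem tE_idx_hi {a : ℕ} (ha : a < 2) {x : Fin NV} (hx : has orb1 x = true) :
    (tE (a + 2) • x : Fin NV).val = ttab (a + 2) x := by
  obtain ⟨-, hlt, hy, he⟩ := table_at ha hx
  have e : tE (a + 2) = (tE a)⁻¹ := by interval_cases a <;> rfl
  have : tE a • (⟨ttab (a + 2) x, hlt⟩ : Fin NV) = x := Fin.ext ((tE_idx_lo ha hy).trans he)
  rw [e, inv_smul_eq_iff.2 this.symm]

theorem app_tWord_zero : ∀ a : Fin 2, app (tWord.getD a.val []) 0 = 0 := by decide +kernel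

theorem tE_base_zero {a : ℕ} (ha : a < 2) : tE a • baseI 0 = baseI 0 := by
  refine Fin.ext ?_
  have e : tE a = wd (tWord.getD a []) := by interval_cases a <;> rfl
  rw [e, wd_idx tWord_lt]
  show app (tWord.getD a []) (baseI 0).val = (baseI 0).val
  rw [baseI_zero]
  exact app_tWord_zero ⟨a, ha⟩

theorem tE_stab {a : ℕ} (ha : a < 4) : tE a ∈ stab 1 := by
  have lo : ∀ {a : ℕ}, a < 2 → tE a ∈ stab 1 := fun {a} ha => mem_stab.2 fun j hj => by
    obtain rfl : j = 0 := by omega
    exact tE_base_zero ha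
  by_cases h : a < 2
  · exact lo h
  · have e : tE a = (tE (a - 2))⁻¹ := by interval_cases a <;> rfl
    rw [e]
    exact (stab 1).inv_mem (lo (by omega))

theorem tE_idx {a : ℕ} (ha : a < 4) {x : Fin NV} (hx : has orb1 x = true) :
    (tE a • x : Fin NV).val = ttab a x := by
  by_cases h : a < 2
  · exact tE_idx_lo h hx
  · obtain ⟨b, rfl⟩ : ∃ b, a = b + 2 := ⟨a - 2, by omega⟩
    exact tE_idx_hi (by omega) hx

/-- A word in the short letters. -/
def tw (w : List ℕ) : fourRu := (w.map tE).prod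

theorem tw_stab : ∀ {w : List ℕ}, (∀ a ∈ w, a < 4) → tw w ∈ stab 1
  | [], _ => one_mem _
  | a :: w, h => by
    rw [tw, List.map_cons, List.prod_cons]
    exact (stab 1).mul_mem (tE_stab (h a List.mem_cons_self)) (tw_stab fun b hb => h b (List.mem_cons_of_mem _ hb))

theorem tw_idx : ∀ {w : List ℕ}, (∀ a ∈ w, a < 4) → ∀ {x : Fin NV}, has orb1 x = true →
    (tw w • x : Fin NV).val = tapp w x
  | [], _, x, _ => by simp [tw, tapp]
  | a :: w, h, x, hx => by
    have hw := fun b hb => h b (List.mem_cons_of_mem _ hb)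
    show _ = ttab a (tapp w x)
    rw [← tw_idx hw hx, tw, List.map_cons, List.prod_cons, mul_smul]
    exact tE_idx (h a List.mem_cons_self) (orb1_smul (tw_stab hw) hx)

theorem wd_tWord {a : ℕ} (ha : a < 2) : wd (tWord.getD a []) = tE a := by interval_cases a <;> rfl

theorem wd_tWord_inv {a : ℕ} (ha : a < 2) : wd (tWord.getD (a + 2) []) = tE (a + 2) := by
  have h : ∀ a : Fin 2, ∀ j : Fin 5,
      app (tWord.getD a.val [] ++ tWord.getD (a.val + 2) []) (baseL.getD j.val 0) = baseL.getD j.val 0 := by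
    decide +kernel
  have e : tE (a + 2) = (tE a)⁻¹ := by interval_cases a <;> rfl
  rw [e, ← wd_tWord ha]
  refine eq_inv_of_mul_eq_one_right ?_
  rw [← wd_append]
  refine eq_one_of_fixes fun j hj => Fin.ext ?_
  rw [wd_idx fun b hb => (List.mem_append.1 hb).elim (tWord_lt b) (tWord_lt b)]
  exact h ⟨a, ha⟩ ⟨j, hj⟩

theorem expandW_lt {w : List ℕ} : ∀ b ∈ expandW w, b < 12 := fun b hb => by
  obtain ⟨a, -, h⟩ := List.mem_flatMap.1 hb
  exact tWord_lt b h

theorem wd_expandW : ∀ {w : List ℕ}, (∀ a ∈ w, a < 4) → wd (expandW w) = tw w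
  | [], _ => rfl
  | a :: w, h => by
    have ha := h a List.mem_cons_self
    rw [expandW, List.flatMap_cons, wd_append,
      show wd (List.flatMap (fun a => tWord.getD a []) w) = tw w from
        wd_expandW fun b hb => h b (List.mem_cons_of_mem _ hb),
      tw, tw, List.map_cons, List.prod_cons]
    congr 1
    by_cases h2 : a < 2
    · exact wd_tWord h2
    · obtain ⟨b, rfl⟩ : ∃ b, a = b + 2 := ⟨a - 2, by omega⟩
      exact wd_tWord_inv (by omega)

/-- The group generated by the two elements. -/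
def tgen : Subgroup fourRu := Subgroup.closure {tE 0, tE 1}

theorem tE_tgen {a : ℕ} (ha : a < 4) : tE a ∈ tgen := by
  have h0 : tE 0 ∈ tgen := Subgroup.subset_closure (by simp)
  have h1 : tE 1 ∈ tgen := Subgroup.subset_closure (by simp)
  interval_cases a
  · exact h0
  · exact h1
  · exact tgen.inv_mem h0
  · exact tgen.inv_mem h1

theorem tw_tgen : ∀ {w : List ℕ}, (∀ a ∈ w, a < 4) → tw w ∈ tgen
  | [], _ => one_mem _
  | a :: w, h => by
    rw [tw, List.map_cons, List.prod_cons]
    exact tgen.mul_mem (tE_tgen (h a List.mem_cons_self)) (tw_tgen fun b hb => h b (List.mem_cons_of_mem _ hb))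

theorem tgen_stab : tgen ≤ stab 1 := by
  rw [tgen, Subgroup.closure_le]
  rintro g (rfl | rfl)
  · exact tE_stab (by norm_num)
  · exact tE_stab (by norm_num)

/-! ### The transversal -/

/-- The element of an edge. -/
def upE : ℕ → ℕ → fourRu
  | 0, _ => 1
  | d + 1, i => if i = 0 then 1 else tE (tlet i) * upE d (tpar i)

theorem beq_zero_of_ne {i : ℕ} (h : i ≠ 0) : Nat.beq i 0 = false := by
  cases e : Nat.beq i 0
  · rfl
  · exact absurd (Nat.eq_of_beq_eq_true e) h

theorem path_step {d i : ℕ} (hi : i ≠ 0) (h : depthOK (d + 1) i = true) :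
    tlet i < 2 ∧ tpar i < i ∧ ttab (tlet i) (ept tedge (tpar i)) = ept tedge i ∧ depthOK d (tpar i) = true := by
  simp only [depthOK, beq_zero_of_ne hi, Bool.false_or, Bool.and_eq_true] at h
  exact ⟨blt_true h.1.1.1, blt_true h.1.1.2, Nat.eq_of_beq_eq_true h.1.2, h.2⟩

theorem upE_spec : ∀ (d : ℕ) {i : ℕ}, depthOK d i = true → upE d i ∈ tgen ∧
    (upE d i • baseI 1 : Fin NV).val = ept tedge i ∧
    (∀ z : Fin NV, has orb1 z = true → (upE d i • z : Fin NV).val = up d i z) ∧
    ∀ z : Fin NV, has orb1 z = true → ((upE d i)⁻¹ • z : Fin NV).val = down d i z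
  | 0, i, h => by
    have hi : i = 0 := Nat.eq_of_beq_eq_true h
    subst hi
    refine ⟨one_mem _, ?_, fun z _ => by simp [upE, up], fun z _ => by simp [upE, down]⟩
    rw [upE, one_smul, tedge_mask.2]; rfl
  | d + 1, i, h => by
    by_cases hi : i = 0
    · subst hi
      have e : upE (d + 1) 0 = 1 := if_pos rfl
      rw [e]
      refine ⟨one_mem _, ?_, fun z _ => ?_, fun z _ => ?_⟩
      · rw [one_smul, tedge_mask.2]; rfl
      · rw [one_smul, up]; rfl
      · rw [inv_one, one_smul, down]; rfl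
    · obtain ⟨h1, h2, h3, h4⟩ := path_step hi h
      obtain ⟨m1, m2, m3, m4⟩ := upE_spec d h4
      have e : upE (d + 1) i = tE (tlet i) * upE d (tpar i) := if_neg hi
      rw [e]
      refine ⟨tgen.mul_mem (tE_tgen (by omega)) m1, ?_, fun z hz => ?_, fun z hz => ?_⟩
      · rw [mul_smul, tE_idx (by omega) (orb1_smul (tgen_stab m1) orb1_base), m2, h3]
      · rw [mul_smul, tE_idx (by omega) (orb1_smul (tgen_stab m1) hz), m3 z hz, up, beq_zero_of_ne hi]
        rfl
      · have einv : (tE (tlet i))⁻¹ = tE (tlet i + 2) := by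
          rcases (by omega : tlet i = 0 ∨ tlet i = 1) with q | q <;> rw [q] <;> rfl
        rw [mul_inv_rev, mul_smul, einv, m4 _ (orb1_smul (tE_stab (by omega)) hz),
          tE_idx (show tlet i + 2 < 4 by omega) hz, down, beq_zero_of_ne hi]
        rfl

theorem path_of {i : ℕ} (hi : i < 7020) : depthOK tDepth i = true ∧ tpos (ept tedge i) = i := by
  have h := allB_spec _ _ _ _ path_ok i (Nat.zero_le i) (by omega)
  simp only [pathOK, Bool.and_eq_true] at h
  exact ⟨h.1, Nat.eq_of_beq_eq_true h.2⟩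

theorem orb1_edge {x : Fin NV} (hx : has orb1 x = true) : ∃ i < 7020, ept tedge i = x.val :=
  mask_points tedge_mask.1 hx

/-- The transversal element of a point. -/
def uE (x : Fin NV) : fourRu := upE tDepth (tpos x)

theorem uE_spec {x : Fin NV} (hx : has orb1 x = true) : uE x ∈ tgen ∧ uE x • baseI 1 = x ∧
    (∀ z : Fin NV, has orb1 z = true → (uE x • z : Fin NV).val = up tDepth (tpos x) z) ∧
    ∀ z : Fin NV, has orb1 z = true → ((uE x)⁻¹ • z : Fin NV).val = down tDepth (tpos x) z := by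
  obtain ⟨i, hi, he⟩ := orb1_edge hx
  obtain ⟨hd, hp⟩ := path_of hi
  have e : tpos x = i := by rw [← he]; exact hp
  obtain ⟨m1, m2, m3, m4⟩ := upE_spec tDepth hd
  rw [uE, e]
  exact ⟨m1, Fin.ext (m2.trans he), m3, m4⟩

/-! ### The halves -/

/-- One half. -/
def setA : Set (Fin NV) := maskSet halfA

/-- The other half. -/
def setB : Set (Fin NV) := maskSet halfB

theorem setA_orb1 {x : Fin NV} (hx : has halfA x = true) : has orb1 x = true := by
  rw [has_eq] at hx ⊢
  rw [← halves_misc.2.2.2.1, Nat.testBit_lor, hx]; rfl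

theorem setB_orb1 {x : Fin NV} (hx : has halfB x = true) : has orb1 x = true := by
  rw [has_eq] at hx ⊢
  rw [← halves_misc.2.2.2.2.1, Nat.testBit_lor, hx]; rfl

theorem half_lt : halfPoint < NV := by decide +kernel

/-- The marked point. -/
def markI : Fin NV := ⟨halfPoint, half_lt⟩

theorem mark_mem : markI ∈ setA := halves_misc.2.1

theorem setA_ne_setB : setA ≠ setB := fun h => by
  have hB : markI ∈ setB := h ▸ mark_mem
  have h1 : has halfA markI = true := mark_mem
  have h2 : has halfB markI = true := hB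
  rw [has_eq] at h1 h2
  have := congrArg (fun z => z.testBit (markI : Fin NV).val) halves_misc.1
  simp only [Nat.testBit_land, h1, h2, Nat.zero_testBit] at this
  simp at this

/-- The elements preserving the pair of halves. -/
def pairStab : Subgroup fourRu := MulAction.stabilizer fourRu ({setA, setB} : Set (Set (Fin NV)))

theorem pair_mem {g : fourRu} : g ∈ pairStab → g • setA = setA ∨ g • setA = setB := by
  intro h
  have hm : g • setA ∈ g • ({setA, setB} : Set (Set (Fin NV))) := Set.smul_mem_smul_set (Set.mem_insert _ _)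
  rw [MulAction.mem_stabilizer_iff.1 h] at hm
  simpa using hm

theorem mem_pairStab {g : fourRu} (h : (g • setA = setA ∧ g • setB = setB) ∨ (g • setA = setB ∧ g • setB = setA)) :
    g ∈ pairStab := by
  rw [pairStab, MulAction.mem_stabilizer_iff, Set.smul_set_insert, Set.smul_set_singleton]
  rcases h with ⟨a, b⟩ | ⟨a, b⟩ <;> rw [a, b]
  exact Set.pair_comm _ _

theorem image_eq {g : fourRu} {f : ℕ → ℕ} {m m' : ℕ} (hf : ∀ x : Fin NV, has m x = true → (g • x : Fin NV).val = f x)
    (hi : imgIn f m m' = true) (hm : cntB 6 (has m) 0 16240 = 512) (hm' : cntB 6 (has m') 0 16240 = 512) :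
    g • maskSet m = maskSet m' := by
  refine Set.eq_of_subset_of_ncard_le ?_ ?_ (Set.toFinite _)
  · rintro _ ⟨x, hx, rfl⟩
    have h := allB_spec _ _ _ _ hi x (Nat.zero_le _) (by have := x.isLt; show _ < 0 + NV; omega)
    have hx' : has m x = true := hx
    simp only [hx', Bool.not_true, Bool.false_or] at h
    show has m' (g • x : Fin NV) = true
    rw [hf x hx']; exact h
  · rw [Set.ncard_smul_set, maskSet_ncard' hm', maskSet_ncard' hm]

/-- The group of the words at the lower levels. -/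
def kgen : Subgroup fourRu := Subgroup.closure {g | ∃ w ∈ kw2 ++ kw3 ++ kw4, g = tw w}

theorem kw_lt {w : List ℕ} (hw : w ∈ kw2 ++ kw3 ++ kw4) : ∀ a ∈ w, a < 4 := fun a ha => by
  simp only [List.mem_append] at hw
  rcases hw with (h | h) | h
  · exact of_decide_eq_true (List.all_eq_true.1 (List.all_eq_true.1 kw2_ok.1 w h) a ha)
  · exact of_decide_eq_true (List.all_eq_true.1 (List.all_eq_true.1 kw3_ok.1 w h) a ha)
  · exact of_decide_eq_true (List.all_eq_true.1 (List.all_eq_true.1 kw4_ok.1 w h) a ha)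

theorem kgen_tgen : kgen ≤ tgen := by
  rw [kgen, Subgroup.closure_le]
  rintro _ ⟨w, hw, rfl⟩
  exact tw_tgen (kw_lt hw)

theorem kgen_stab2 : kgen ≤ stab 2 := by
  rw [kgen, Subgroup.closure_le]
  rintro _ ⟨w, hw, rfl⟩
  simp only [List.mem_append] at hw
  rcases hw with (h | h) | h
  · rw [← wd_expandW (kw_lt (by simp [h]))]
    exact (gw_spec kw2_ok.2.1 (by norm_num) (List.mem_map_of_mem h)).2.1
  · rw [← wd_expandW (kw_lt (by simp [h]))]
    exact stab_le (by norm_num : 2 ≤ 3) (gw_spec kw3_ok.2.1 (by norm_num) (List.mem_map_of_mem h)).2.1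
  · rw [← wd_expandW (kw_lt (by simp [h]))]
    exact stab_le (by norm_num : 2 ≤ 4) (gw_spec kw4_ok.2.1 (by norm_num) (List.mem_map_of_mem h)).2.1

theorem kgen_halves : kgen ≤ MulAction.stabilizer fourRu setA ⊓ MulAction.stabilizer fourRu setB := by
  rw [kgen, Subgroup.closure_le]
  rintro _ ⟨w, hw, rfl⟩
  have h := List.all_eq_true.1 halves_k w hw
  simp only [Bool.and_eq_true] at h
  exact ⟨MulAction.mem_stabilizer_iff.2 (image_eq (fun x hx => tw_idx (kw_lt hw) (setA_orb1 hx)) h.1
      halves_misc.2.2.2.2.2.1 halves_misc.2.2.2.2.2.1),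
    MulAction.mem_stabilizer_iff.2 (image_eq (fun x hx => tw_idx (kw_lt hw) (setB_orb1 hx)) h.2
      halves_misc.2.2.2.2.2.2 halves_misc.2.2.2.2.2.2)⟩

/-- The exchanging element. -/
def swapE : fourRu := wd (gw2.getD swapAt [])

theorem swap_spec : swapE ∈ stab 2 ∧ swapE • setA = setB ∧ swapE • setB = setA := by
  have hm : gw2.getD swapAt [] ∈ gw2 := by
    rw [List.getD_eq_getElem _ _ halves_misc.2.2.1]; exact List.getElem_mem _
  obtain ⟨hl, hs⟩ := gw_spec gw2_ok (by norm_num) hm
  exact ⟨hs.1, image_eq (fun x _ => by rw [swapE, wd_idx hl]) halves_swap.1 halves_misc.2.2.2.2.2.1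
      halves_misc.2.2.2.2.2.2,
    image_eq (fun x _ => by rw [swapE, wd_idx hl]) halves_swap.2 halves_misc.2.2.2.2.2.2
      halves_misc.2.2.2.2.2.1⟩

theorem reach_in {k : ℕ} {gw : List (List ℕ)} {t : Tree} {d n : ℕ} (H : Subgroup fourRu)
    (hl : ∀ w ∈ gw, (∀ a ∈ w, a < 12) ∧ wd w ∈ H) (h : allB d (edgeOK gw t) 0 n = true)
    (hr : ept t 0 = (baseI k).val) {m : ℕ} (hm : orB d (fun i => 1 <<< ept t i) 0 n = m) :
    maskSet m ⊆ MulAction.orbit H (baseI k) := by
  intro x hx
  obtain ⟨i, hi, he⟩ := mask_points hm hx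
  obtain ⟨g, hg, hge⟩ := tree_points h (fun y => ∃ g ∈ H, (g • baseI k : Fin NV).val = y)
    ⟨1, one_mem _, by rw [one_smul, hr]⟩
    (fun w hw y ⟨g, hg, e⟩ => ⟨wd w * g, H.mul_mem (hl w hw).2 hg, by
      rw [mul_smul, wd_idx (hl w hw).1, ← e]⟩) i hi
  exact ⟨⟨g, hg⟩, Fin.ext (hge.trans he)⟩

theorem kgen_level {k d n m s : ℕ} {gw : List (List ℕ)} {t : Tree} (hgw : gwOK k (gw.map expandW) = true)
    (hk : k ≤ 4) (hsub : ∀ w ∈ gw, w ∈ kw2 ++ kw3 ++ kw4)
    (h : allB d (edgeOK (gw.map expandW) t) 0 n = true)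
    (hm : orB d (fun i => 1 <<< ept t i) 0 n = m) (hc : cntB 6 (has m) 0 16240 = s)
    (hr : ept t 0 = baseL.getD k 0) :
    s * Nat.card (kgen ⊓ stab (k + 1) : Subgroup fourRu) ≤ Nat.card (kgen ⊓ stab k : Subgroup fourRu) := by
  haveI := finite_sub (kgen ⊓ stab k)
  have hle := reach_in (k := k) (kgen ⊓ stab k) (fun w hw => by
    obtain ⟨v, hv, rfl⟩ := List.mem_map.1 hw
    refine ⟨expandW_lt, ?_, (gw_spec hgw (by omega) hw).2.1⟩
    rw [wd_expandW (kw_lt (hsub v hv))]
    exact Subgroup.subset_closure ⟨v, hsub v hv, rfl⟩) h hr hm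
  have e := card_orbit_mul (kgen ⊓ stab k) (baseI k)
  rw [inf_assoc, ← stab_succ] at e
  rw [← e, ← maskSet_ncard' hc]
  exact Nat.mul_le_mul_right _ (Set.ncard_le_ncard hle (Set.toFinite _))

theorem kgen_card : 2560 ≤ Nat.card kgen := by
  obtain ⟨-, a1, a2, a3, a4, a5⟩ := kw2_ok
  obtain ⟨-, b1, b2, b3, b4, b5⟩ := kw3_ok
  obtain ⟨-, c1, c2, c3, c4, c5⟩ := kw4_ok
  have h2 := kgen_level a1 (by norm_num) (fun w hw => by simp [hw]) a2 a3 a4 a5
  have h3 := kgen_level b1 (by norm_num) (fun w hw => by simp [hw]) b2 b3 b4 b5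
  have h4 := kgen_level c1 (by norm_num) (fun w hw => by simp [hw]) c2 c3 c4 c5
  rw [inf_eq_left.2 kgen_stab2] at h2
  have h5 : Nat.card (kgen ⊓ stab (4 + 1) : Subgroup fourRu) = 1 := by
    rw [show stab (4 + 1) = ⊥ from stab_five, inf_bot_eq, Subgroup.card_bot]
  rw [h5] at h4
  simp only [Nat.reduceAdd] at h2 h3
  omega

theorem card_stab_two : Nat.card (stab 2) = 5120 := by
  rw [card_step level2, card_step level3, card_step level4, stab_five, Subgroup.card_bot]

theorem stab2_pair : stab 2 ≤ pairStab := by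
  set P := pairStab ⊓ stab 2
  haveI := finite_sub P
  haveI := finite_sub (stab 2)
  have hk : kgen ≤ P := le_inf (fun g hg => mem_pairStab (Or.inl
    ⟨(kgen_halves hg).1, (kgen_halves hg).2⟩)) kgen_stab2
  have hs : swapE ∈ P := ⟨mem_pairStab (Or.inr ⟨swap_spec.2.1, swap_spec.2.2⟩), swap_spec.1⟩
  have hlt : Nat.card kgen < Nat.card P := by
    refine lt_of_le_of_ne (Subgroup.card_le_of_le hk) fun e => ?_
    have : swapE ∈ kgen := by rw [Subgroup.eq_of_le_of_card_ge hk e.ge]; exact hs
    exact setA_ne_setB ((kgen_halves this).1.symm.trans swap_spec.2.1)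
  have hd : Nat.card P ∣ 5120 := card_stab_two ▸ Subgroup.card_dvd_of_le inf_le_right
  obtain ⟨c, hc⟩ := hd
  have hge := kgen_card
  have : Nat.card P = 5120 := by
    rcases c with _ | _ | c
    · simp at hc
    · simpa using hc.symm
    · exfalso
      nlinarith
  have e : P = stab 2 := Subgroup.eq_of_le_of_card_ge inf_le_right (by rw [this, card_stab_two])
  exact e ▸ inf_le_left

/-! ### The subgroup -/

/-- The half at a point. -/
def halfAt (x : Fin NV) : Set (Fin NV) := uE x • setA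

theorem halfAt_base : halfAt (baseI 1) = setA := by
  obtain ⟨m1, m2, -, -⟩ := uE_spec orb1_base
  have hp : uE (baseI 1) = 1 := by
    have e : tpos (baseI 1 : Fin NV) = 0 := by
      show tpos (baseL.getD 1 0) = 0
      rw [← tedge_mask.2]; exact (path_of (by norm_num : 0 < 7020)).2
    rw [uE, e]
    cases tDepth <;> simp [upE]
  rw [halfAt, hp, one_smul]

/-- The subgroup of index two. -/
def titsT : Subgroup fourRu where
  carrier := {g | g ∈ stab 1 ∧ ∀ x : Fin NV, has orb1 x = true → g • halfAt x = halfAt (g • x)}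
  one_mem' := ⟨one_mem _, fun x _ => by rw [one_smul, one_smul]⟩
  mul_mem' := fun {g h} hg hh => ⟨(stab 1).mul_mem hg.1 hh.1, fun x hx => by
    rw [mul_smul, hh.2 x hx, hg.2 _ (orb1_smul hh.1 hx), mul_smul]⟩
  inv_mem' := fun {g} hg => ⟨(stab 1).inv_mem hg.1, fun x hx => by
    rw [inv_smul_eq_iff, hg.2 _ (orb1_smul ((stab 1).inv_mem hg.1) hx), smul_inv_smul]⟩

theorem titsT_le : titsT ≤ stab 1 := fun _ h => h.1

theorem tE_titsT {a : ℕ} (ha : a < 2) : tE a ∈ titsT := by
  refine ⟨tE_stab (by omega), fun x hx => ?_⟩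
  set y := tE a • x with hy
  have hy1 : has orb1 y = true := orb1_smul (tE_stab (by omega)) hx
  obtain ⟨i, hi, he⟩ := orb1_edge hx
  obtain ⟨-, hpi⟩ := path_of hi
  have hs : schreierOK a i = true := by
    interval_cases a
    · exact allB_spec _ _ _ _ schreier_ok_0 i (Nat.zero_le i) (by omega)
    · exact allB_spec _ _ _ _ schreier_ok_1 i (Nat.zero_le i) (by omega)
  have hyv : y.val = ttab a x := tE_idx (by omega) hx
  simp only [schreierOK, force_schreier, he, ← hyv, Bool.and_eq_true] at hs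
  obtain ⟨mx, mx1, mx2, -⟩ := uE_spec hx
  obtain ⟨my, my1, -, my2⟩ := uE_spec hy1
  have hm : has orb1 markI = true := setA_orb1 mark_mem
  have hin : (uE y)⁻¹ * (tE a * uE x) ∈ stab 2 := by
    rw [stab_succ]
    refine ⟨(stab 1).mul_mem ((stab 1).inv_mem (tgen_stab my))
      ((stab 1).mul_mem (tE_stab (by omega)) (tgen_stab mx)), ?_⟩
    show ((uE y)⁻¹ * (tE a * uE x)) • baseI 1 = baseI 1
    rw [mul_smul, mul_smul, mx1, ← hy, inv_smul_eq_iff, my1]
  have hpt : ((uE y)⁻¹ * (tE a * uE x)) • markI ∈ setA := by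
    have e1 : tpos x = i := by rw [← he]; exact hpi
    have hz : has orb1 (uE x • markI : Fin NV) = true := orb1_smul (tgen_stab mx) hm
    show has halfA _ = true
    rw [mul_smul, mul_smul, my2 _ (orb1_smul (tE_stab (by omega)) hz), tE_idx (by omega) hz, mx2 _ hm, e1]
    exact hs.2
  have heq : ((uE y)⁻¹ * (tE a * uE x)) • setA = setA := by
    refine (pair_mem (stab2_pair hin)).resolve_right fun hB => ?_
    obtain ⟨z, hz, hze⟩ : ((uE y)⁻¹ * (tE a * uE x)) • markI ∈ ((uE y)⁻¹ * (tE a * uE x)) • setA :=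
      Set.smul_mem_smul_set mark_mem
    have hb : ((uE y)⁻¹ * (tE a * uE x)) • markI ∈ setB := hB ▸ Set.smul_mem_smul_set mark_mem
    have h1 : has halfA _ = true := hpt
    have h2 : has halfB _ = true := hb
    rw [has_eq] at h1 h2
    have := congrArg (fun q => q.testBit (((uE y)⁻¹ * (tE a * uE x)) • markI : Fin NV).val) halves_misc.1
    simp only [Nat.testBit_land, h1, h2, Nat.zero_testBit] at this
    simp at this
  rw [mul_smul, mul_smul, inv_smul_eq_iff] at heq
  exact heq

theorem tgen_le : tgen ≤ titsT := by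
  rw [tgen, Subgroup.closure_le]
  rintro g (rfl | rfl)
  · exact tE_titsT (by norm_num)
  · exact tE_titsT (by norm_num)

theorem titsT_fix {g : fourRu} (hg : g ∈ titsT) (h2 : g ∈ stab 2) : g • setA = setA := by
  have hb : g • baseI 1 = baseI 1 := mem_stab.1 h2 1 (by norm_num)
  have := hg.2 (baseI 1) orb1_base
  rwa [hb, halfAt_base] at this

theorem card_half_stab : Nat.card (stab 2 ⊓ MulAction.stabilizer fourRu setA : Subgroup fourRu) = 2560 := by
  have e := card_orbit_mul (α := Set (Fin NV)) (stab 2) setA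
  have ho : MulAction.orbit (stab 2) setA = {setA, setB} := by
    refine Set.Subset.antisymm ?_ ?_
    · rintro _ ⟨g, rfl⟩
      show (g : fourRu) • setA ∈ _
      simpa using pair_mem (stab2_pair g.2)
    · rintro _ (rfl | rfl)
      · exact MulAction.mem_orbit_self _
      · exact ⟨⟨swapE, swap_spec.1⟩, swap_spec.2.1⟩
  rw [ho, Set.ncard_pair setA_ne_setB, card_stab_two] at e
  omega

theorem tgen_orbit : MulAction.orbit tgen (baseI 1) = maskSet orb1 := by
  refine Set.Subset.antisymm ?_ fun x hx => ⟨⟨uE x, (uE_spec hx).1⟩, (uE_spec hx).2.1⟩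
  rintro _ ⟨g, rfl⟩
  exact orb1_smul (tgen_stab g.2) orb1_base

theorem orb1_ncard : (maskSet orb1).ncard = 7020 := maskSet_ncard' cnt1_ok

theorem card_tgen_ge : 17971200 ≤ Nat.card tgen := by
  haveI := finite_sub tgen
  have e := card_orbit_mul tgen (baseI 1)
  rw [tgen_orbit, orb1_ncard] at e
  haveI := finite_sub (tgen ⊓ MulAction.stabilizer fourRu (baseI 1))
  have hk : kgen ≤ tgen ⊓ MulAction.stabilizer fourRu (baseI 1) :=
    le_inf kgen_tgen fun g hg => MulAction.mem_stabilizer_iff.2 (mem_stab.1 (kgen_stab2 hg) 1 (by norm_num))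
  have := Subgroup.card_le_of_le hk
  have := kgen_card
  rw [← e]
  nlinarith

theorem card_titsT_le : Nat.card titsT ≤ 17971200 := by
  haveI := finite_sub titsT
  have e := card_orbit_mul titsT (baseI 1)
  haveI := finite_sub (stab 2 ⊓ MulAction.stabilizer fourRu setA)
  have hle : titsT ⊓ MulAction.stabilizer fourRu (baseI 1) ≤ stab 2 ⊓ MulAction.stabilizer fourRu setA := by
    rintro g ⟨h1, h2⟩
    have h3 : g ∈ stab 2 := by rw [stab_succ]; exact ⟨h1.1, h2⟩
    exact ⟨h3, MulAction.mem_stabilizer_iff.2 (titsT_fix h1 h3)⟩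
  have h2 := Subgroup.card_le_of_le hle
  rw [card_half_stab] at h2
  have h1 : (MulAction.orbit titsT (baseI 1)).ncard ≤ 7020 := by
    rw [← orb1_ncard]
    refine Set.ncard_le_ncard ?_ (Set.toFinite _)
    rintro _ ⟨g, rfl⟩
    exact orb1_smul g.2.1 orb1_base
  rw [← e]
  calc _ ≤ 7020 * 2560 := Nat.mul_le_mul h1 h2
    _ = 17971200 := by norm_num

theorem tgen_eq : tgen = titsT := by
  haveI := finite_sub titsT
  exact Subgroup.eq_of_le_of_card_ge tgen_le (le_trans card_titsT_le card_tgen_ge)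

theorem card_titsT : Nat.card titsT = 17971200 :=
  le_antisymm card_titsT_le (tgen_eq ▸ card_tgen_ge)

theorem titsT_point : (titsT ⊓ MulAction.stabilizer fourRu (baseI 1) : Subgroup fourRu) =
    stab 2 ⊓ MulAction.stabilizer fourRu setA ∧
    Nat.card (titsT ⊓ MulAction.stabilizer fourRu (baseI 1) : Subgroup fourRu) = 2560 := by
  haveI := finite_sub (stab 2 ⊓ MulAction.stabilizer fourRu setA)
  have e := card_orbit_mul titsT (baseI 1)
  rw [show MulAction.orbit titsT (baseI 1) = maskSet orb1 from tgen_eq ▸ tgen_orbit, orb1_ncard, card_titsT] at e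
  refine ⟨Subgroup.eq_of_le_of_card_ge ?_ (by rw [card_half_stab]; omega), by omega⟩
  rintro g ⟨h1, h2⟩
  have h3 : g ∈ stab 2 := by rw [stab_succ]; exact ⟨h1.1, h2⟩
  exact ⟨h3, MulAction.mem_stabilizer_iff.2 (titsT_fix h1 h3)⟩

end Cfsg.Agent.RuTits
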