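import Cfsg.Agent.Lib.RuTits.Simple
import Cfsg.Agent.Lib.CosetPerm.Basic
import Cfsg.Prelude.Def_Sporadic

/-!
The Rudvalis group as a permutation group on 4060 lines.
-/

set_option autoImplicit false
set_option maxRecDepth 100000

noncomputable section

namespace Cfsg.Agent.RuTits

open Cfsg.Spor Cfsg.Agent.RuAut

/-- The stabiliser of a line in the Rudvalis group. -/
def ruPoint : Subgroup Ru := (stab 1).map (QuotientGroup.mk' (Subgroup.center fourRu))

theorem mk_injective : Function.Injective ((QuotientGroup.mk' (Subgroup.center fourRu)).comp (stab 1).subtype) := by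
  rw [← MonoidHom.ker_eq_bot_iff, Subgroup.eq_bot_iff_forall]
  intro g hg
  have hc : (g : fourRu) ∈ Subgroup.center fourRu := (QuotientGroup.eq_one_iff _).1 hg
  exact Subtype.ext (central_eq_one hc (mem_stab.1 g.2 0 (by norm_num)))

theorem map_subtype_eq : ((QuotientGroup.mk' (Subgroup.center fourRu)).comp (stab 1).subtype).range = ruPoint := by
  rw [MonoidHom.range_comp, Subgroup.range_subtype]; rfl

theorem card_ruPoint : Nat.card ruPoint = 35942400 := by
  rw [← map_subtype_eq, ← card_stab_one]
  exact (Nat.card_congr (MonoidHom.ofInjective mk_injective).toEquiv).symm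

theorem index_ruPoint : ruPoint.index = 4059 + 1 := by
  have h := Subgroup.card_mul_index ruPoint
  rw [card_ruPoint, card_Ru] at h
  omega

theorem realization : ∃ H : Subgroup (Equiv.Perm (Fin 4060)), Cfsg.IsRu H ∧
    MulAction.IsPretransitive H (Fin 4060) ∧
    Nat.card (MulAction.stabilizer H (0 : Fin 4060)) = 35942400 ∧
    ∃ T : Subgroup (MulAction.stabilizer H (0 : Fin 4060)), Cfsg.IsTits T := by
  haveI := isSimple_Ru
  obtain ⟨H, e, htr, hst⟩ := Cfsg.Agent.Lib.CosetPerm.exists_perm ruPoint index_ruPoint (by norm_num)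
  refine ⟨H, ⟨e.symm.isSimpleGroup, ?_⟩, htr, ?_, ?_⟩
  · rw [← Nat.card_congr e.toEquiv, card_Ru]
  · rw [hst, ← card_ruPoint]
    exact (Nat.card_congr (ruPoint.equivMapOfInjective _ e.injective).toEquiv).symm
  · let j : titsT →* H := e.toMonoidHom.comp ((QuotientGroup.mk' (Subgroup.center fourRu)).comp titsT.subtype)
    have hmem : ∀ t : titsT, j t ∈ MulAction.stabilizer H (0 : Fin 4060) := fun t => by
      rw [hst]
      exact Subgroup.mem_map_of_mem _ (Subgroup.mem_map_of_mem _ (titsT_le t.2))
    let f : titsT →* MulAction.stabilizer H (0 : Fin 4060) := j.codRestrict _ hmem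
    have hf : Function.Injective f := fun a b hab => by
      have h : j a = j b := congrArg Subtype.val hab
      have h2 : QuotientGroup.mk' (Subgroup.center fourRu) (a : fourRu) =
          QuotientGroup.mk' (Subgroup.center fourRu) (b : fourRu) := e.injective h
      have := mk_injective (a₁ := ⟨a, titsT_le a.2⟩) (a₂ := ⟨b, titsT_le b.2⟩) h2
      simp only [Subtype.mk.injEq] at this
      exact Subtype.ext this
    refine ⟨f.range, ?_, ?_⟩
    · haveI := isSimple_titsT
      exact (MonoidHom.ofInjective hf).symm.isSimpleGroup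
    · rw [← Nat.card_congr (MonoidHom.ofInjective hf).toEquiv, card_titsT]

end Cfsg.Agent.RuTits
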