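import Cfsg.Agent.Lib.RuTits.Group
import Cfsg.Prelude.Def_Exceptional

/-!
The subgroup of index two is simple.
-/

set_option autoImplicit false
set_option maxRecDepth 100000

noncomputable section

namespace Cfsg.Agent.RuTits

open Cfsg.Spor Cfsg.Agent.RuAut Cfsg.Agent.CosetCert
open scoped Pointwise

theorem scal_has : ∀ e : Fin 4, has scalM ((tab 0)^[e.val] (baseL.getD 1 0)) = true := by decide +kernel

/-- The multiples of the second base point. -/
def line1 : Set (Fin NV) := maskSet scalM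

theorem line1_mem (x : Fin NV) : x ∈ line1 ↔ ∃ e : ℕ, (iElt ^ e) • baseI 1 = x := by
  constructor
  · intro hx
    obtain ⟨i, hi, he⟩ := mask_points line_ok.2.2.1 hx
    obtain ⟨e, hee⟩ := scal_sub ⟨i, hi⟩
    refine ⟨e.val, Fin.ext ?_⟩
    rw [iElt_pow_val, ← he, hee]; rfl
  · rintro ⟨e, rfl⟩
    rw [← Nat.div_add_mod e 4, pow_add, pow_mul, iElt_pow_four, one_pow, one_mul]
    show has scalM _ = true
    rw [iElt_pow_val]
    exact scal_has ⟨e % 4, Nat.mod_lt _ (by norm_num)⟩

theorem line1_stab {g : fourRu} (h : g • baseI 1 ∈ line1) : g • line1 = line1 := by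
  refine Set.eq_of_subset_of_ncard_le ?_ ?_ (Set.toFinite _)
  · rintro _ ⟨x, hx, rfl⟩
    obtain ⟨e, rfl⟩ := (line1_mem x).1 hx
    obtain ⟨f, hf⟩ := (line1_mem _).1 h
    rw [line1_mem]
    refine ⟨e + f, ?_⟩
    show (iElt ^ (e + f)) • baseI 1 = g • (iElt ^ e) • baseI 1
    rw [iElt_comm, ← hf, ← mul_smul, ← pow_add]
  · rw [Set.ncard_smul_set]

/-- The stabiliser of the line in the subgroup. -/
def lineT : Subgroup fourRu := titsT ⊓ MulAction.stabilizer fourRu line1

theorem mem_lineT {g : fourRu} (hg : g ∈ titsT) (h : g • baseI 1 ∈ line1) : g ∈ lineT :=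
  ⟨hg, MulAction.mem_stabilizer_iff.2 (line1_stab h)⟩

theorem base_line1 : baseI 1 ∈ line1 := (line1_mem _).2 ⟨0, by rw [pow_zero, one_smul]⟩

theorem lineT_line {g : fourRu} (hg : g ∈ lineT) : g • baseI 1 ∈ line1 := by
  have := Set.smul_mem_smul_set (a := g) base_line1
  rwa [MulAction.mem_stabilizer_iff.1 hg.2] at this

theorem lineW_spec {w : List ℕ} (hw : w ∈ lineW) :
    w = [4] ∨ ((∀ a ∈ w, a < 4) ∧ tw w ∈ lineT) := by
  have h := List.all_eq_true.1 line_ok.1 w hw
  simp only [Bool.or_eq_true, Bool.and_eq_true, decide_eq_true_eq, List.all_eq_true] at h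
  rcases h with h | ⟨h1, h2⟩
  · exact Or.inl h
  · refine Or.inr ⟨h1, mem_lineT (tgen_le (tw_tgen h1)) ?_⟩
    show has scalM _ = true
    rw [tw_idx h1 orb1_base]
    exact h2

/-- The points of a tree of line words stay in one orbit of a group containing them and the scalar. -/
theorem class_orbit {t : Tree} {d n m : ℕ} (h : allB d (tEdgeOK lineW t) 0 n = true)
    (hm : orB d (fun i => 1 <<< ept t i) 0 n = m) (hsub : ∀ x, has m x = true → has orb1 x = true)
    (H : Subgroup fourRu) (hT : lineT ≤ H) (hi : iElt ∈ H) {x y : Fin NV}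
    (hx : has m x = true) (hy : has m y = true) : ∃ g ∈ H, g • x = y := by
  have hpt : ∀ i < n, ∀ hlt : ept t i < NV, ∃ g ∈ H, ∀ r : Fin NV, r.val = ept t 0 → g • r = ⟨ept t i, hlt⟩ := by
    intro i
    induction i using Nat.strong_induction_on with
    | _ i ih =>
      intro hin hlt
      have e := allB_spec _ _ _ _ h i (Nat.zero_le i) (by omega)
      simp only [tEdgeOK, Bool.or_eq_true, Bool.and_eq_true] at e
      rcases e with e | ⟨⟨e1, e2⟩, e3⟩
      · obtain rfl := Nat.eq_of_beq_eq_true e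
        exact ⟨1, one_mem _, fun r hr => by rw [one_smul]; exact Fin.ext hr⟩
      · set p := (edge t i >>> 14) &&& 16383 with hp
        have l1 : p < i := blt_true e1
        have l2 := blt_true e2
        have hpo : has orb1 (ept t p) = true := hsub _ (point_mask hm (by omega))
        have hplt : ept t p < NV := by
          by_contra hc
          have hlt' : orb1 < 2 ^ 16240 := by decide +kernel
          rw [has_eq, Nat.testBit_lt_two_pow (lt_of_lt_of_le hlt'
            (Nat.pow_le_pow_right (by norm_num) (show 16240 ≤ ept t p from not_lt.1 hc)))] at hpo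
          exact Bool.noConfusion hpo
        obtain ⟨g, hg, hgr⟩ := ih p l1 (by omega) hplt
        have hw : lineW.getD (edge t i >>> 28) [] ∈ lineW := by
          rw [List.getD_eq_getElem _ _ l2]; exact List.getElem_mem _
        have e3' := Nat.eq_of_beq_eq_true e3
        rcases lineW_spec hw with h4 | ⟨h4, hmem⟩
        · refine ⟨iElt * g, H.mul_mem hi hg, fun r hr => Fin.ext ?_⟩
          rw [mul_smul, hgr r hr, iElt_smul]
          show tab 0 (ept t p) = ept t i
          rw [← e3', h4]; rfl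
        · refine ⟨tw (lineW.getD (edge t i >>> 28) []) * g, H.mul_mem (hT hmem) hg, fun r hr => Fin.ext ?_⟩
          rw [mul_smul, hgr r hr, tw_idx h4 (x := ⟨ept t p, hplt⟩) hpo]
          exact e3'
  obtain ⟨i, hin, hei⟩ := mask_points hm hx
  obtain ⟨j, hjn, hej⟩ := mask_points hm hy
  obtain ⟨g, hg, hgr⟩ := hpt i hin (hei ▸ x.isLt)
  obtain ⟨g', hg', hgr'⟩ := hpt j hjn (hej ▸ y.isLt)
  have h0n : 0 < n := by omega
  have hr : ept t 0 < NV := by
    by_contra hc
    have hlt' : orb1 < 2 ^ 16240 := by decide +kernel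
    have h0 := hsub _ (point_mask hm h0n)
    rw [has_eq, Nat.testBit_lt_two_pow (lt_of_lt_of_le hlt'
      (Nat.pow_le_pow_right (by norm_num) (show 16240 ≤ ept t 0 from not_lt.1 hc)))] at h0
    exact Bool.noConfusion h0
  refine ⟨g' * g⁻¹, H.mul_mem hg' (H.inv_mem hg), ?_⟩
  have e1 : g • (⟨ept t 0, hr⟩ : Fin NV) = x := (hgr _ rfl).trans (Fin.ext hei)
  rw [← e1, mul_smul, inv_smul_smul]
  exact (hgr' _ rfl).trans (Fin.ext hej)

theorem has_or (a b x : ℕ) : has (a ||| b) x = (has a x || has b x) := by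
  simp [has_eq, Nat.testBit_lor]

theorem has_zero (x : ℕ) : has 0 x = false := by simp [has_eq]

theorem has_clsSel (f x : ℕ) : has (clsSel f) x = (has scalM x || (f.testBit 0 && has cls0 x) ||
    (f.testBit 1 && has cls1 x) || (f.testBit 2 && has cls2 x) || (f.testBit 3 && has cls3 x)) := by
  have hb : ∀ k, Nat.beq ((f >>> k) &&& 1) 1 = f.testBit k := fun k => has_eq f k
  have h0 : Nat.beq (f &&& 1) 1 = f.testBit 0 := hb 0
  simp only [clsSel, has_or, hb, h0]
  cases f.testBit 0 <;> cases f.testBit 1 <;> cases f.testBit 2 <;> cases f.testBit 3 <;> simp [has_zero]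

theorem cls_sub {x : ℕ} (h : (has cls0 x || has cls1 x || has cls2 x || has cls3 x) = true) :
    has orb1 x = true := by
  rw [← cls_cover, has_clsSel, show Nat.testBit 15 0 = true from rfl, show Nat.testBit 15 1 = true from rfl,
    show Nat.testBit 15 2 = true from rfl, show Nat.testBit 15 3 = true from rfl]
  cases has scalM x <;> simpa using h

theorem scal_sedge {x : Fin NV} (hx : x ∈ line1) : ∃ g ∈ lineT, g • baseI 1 = x := by
  obtain ⟨i, hi, he⟩ := mask_points line_ok.2.2.1 hx
  have hclosed : ∀ j < 4, ∃ g ∈ lineT, ∃ e : ℕ, ((iElt ^ e) • g • baseI 1 : Fin NV).val = ept sedge j ∧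
      Nat.beq e 0 = true := by
    intro j
    induction j using Nat.strong_induction_on with
    | _ j ih =>
      intro hj
      have e := allB_spec _ _ _ _ line_ok.2.1 j (Nat.zero_le j) (by omega)
      simp only [tEdgeOK, Bool.or_eq_true, Bool.and_eq_true] at e
      rcases e with e | ⟨⟨e1, e2⟩, e3⟩
      · obtain rfl := Nat.eq_of_beq_eq_true e
        exact ⟨1, one_mem _, 0, by rw [pow_zero, one_smul, one_smul, line_ok.2.2.2.1]; rfl, rfl⟩
      · have l1 := blt_true e1
        have l2 := blt_true e2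
        obtain ⟨g, hg, e', he', hz⟩ := ih _ l1 (by omega)
        obtain rfl := Nat.eq_of_beq_eq_true hz
        rw [pow_zero, one_smul] at he'
        have hw : lineW.getD (edge sedge j >>> 28) [] ∈ lineW := by
          rw [List.getD_eq_getElem _ _ l2]; exact List.getElem_mem _
        rcases lineW_spec hw with h4 | ⟨h4, hmem⟩
        · exfalso
          exact no_turn ⟨j, hj⟩ h4
        · refine ⟨tw (lineW.getD (edge sedge j >>> 28) []) * g, lineT.mul_mem hmem hg, 0, ?_, rfl⟩
          rw [pow_zero, one_smul, mul_smul, tw_idx h4 (orb1_smul hg.1.1 orb1_base), he']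
          exact Nat.eq_of_beq_eq_true e3
  obtain ⟨g, hg, e, hge, hz⟩ := hclosed i hi
  obtain rfl := Nat.eq_of_beq_eq_true hz
  rw [pow_zero, one_smul] at hge
  exact ⟨g, hg, Fin.ext (hge.trans he)⟩
where
  no_turn : ∀ j : Fin 4, lineW.getD (edge sedge j.val >>> 28) [] ≠ [4] := by decide +kernel

theorem lineT_maximal {S : Subgroup fourRu} (h1 : lineT ≤ S) (h2 : S ≤ titsT) : S ≤ lineT ∨ S = titsT := by
  classical
  set O := MulAction.orbit S (baseI 1)
  have hS : ∀ g ∈ S, g • O = O := fun g hg => MulAction.smul_orbit (⟨g, hg⟩ : S) (baseI 1)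
  have hi : iElt • O = O := by
    obtain ⟨t, ht, hte⟩ := scal_sedge ((line1_mem (iElt • baseI 1)).2 ⟨1, by rw [pow_one]⟩)
    refine Set.eq_of_subset_of_ncard_le ?_ ?_ (Set.toFinite _)
    · rintro _ ⟨_, ⟨s, rfl⟩, rfl⟩
      refine ⟨⟨s * t, S.mul_mem s.2 (h1 ht)⟩, ?_⟩
      show ((s : fourRu) * t) • baseI 1 = iElt • (s : fourRu) • baseI 1
      rw [mul_smul, hte]
      simpa using iElt_comm (s : fourRu) 1 (baseI 1)
    · rw [Set.ncard_smul_set]
  set H := MulAction.stabilizer fourRu O
  have hTH : lineT ≤ H := fun g hg => MulAction.mem_stabilizer_iff.2 (hS g (h1 hg))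
  have hiH : iElt ∈ H := MulAction.mem_stabilizer_iff.2 hi
  have move : ∀ {t : Tree} {d n m : ℕ}, allB d (tEdgeOK lineW t) 0 n = true →
      orB d (fun i => 1 <<< ept t i) 0 n = m → (∀ x, has m x = true → has orb1 x = true) →
      ∀ {x y : Fin NV}, x ∈ O → has m x = true → has m y = true → y ∈ O := by
    intro t d n m ht hm hsub x y hxO hx hy
    obtain ⟨g, hg, rfl⟩ := class_orbit ht hm hsub H hTH hiH hx hy
    have hgx := Set.smul_mem_smul_set (a := g) hxO
    rwa [MulAction.mem_stabilizer_iff.1 hg] at hgx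
  have hOsub : ∀ x ∈ O, has orb1 (x : Fin NV) = true := by
    rintro _ ⟨s, rfl⟩
    exact orb1_smul (h2 s.2).1 orb1_base
  let bit (m : ℕ) : Bool := decide (∃ x ∈ O, has m (x : Fin NV) = true)
  let f : ℕ := Nat.ofBits ![bit cls0, bit cls1, bit cls2, bit cls3]
  have hf : ∀ i : Fin 4, f.testBit i.val = ![bit cls0, bit cls1, bit cls2, bit cls3] i := fun i =>
    Nat.testBit_ofBits_lt _ _ i.isLt
  have f0 := hf 0
  have f1 := hf 1
  have f2 := hf 2
  have f3 := hf 3
  simp only [Fin.val_zero, Fin.val_one, Fin.val_two, show ((3 : Fin 4) : ℕ) = 3 from rfl,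
    Matrix.cons_val_zero, Matrix.cons_val_one, Matrix.cons_val] at f0 f1 f2 f3
  obtain ⟨a1, a2, a3, a4, b1, b2, b3, b4⟩ := cls_ok
  have c0 : ∀ x, has cls0 x = true → has orb1 x = true := fun x h => cls_sub (by simp [h])
  have c1 : ∀ x, has cls1 x = true → has orb1 x = true := fun x h => cls_sub (by simp [h])
  have c2 : ∀ x, has cls2 x = true → has orb1 x = true := fun x h => cls_sub (by simp [h])
  have c3 : ∀ x, has cls3 x = true → has orb1 x = true := fun x h => cls_sub (by simp [h])
  have hO : O = maskSet (clsSel f) := by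
    ext x
    show x ∈ O ↔ has (clsSel f) x = true
    rw [has_clsSel, f0, f1, f2, f3]
    simp only [Bool.or_eq_true, Bool.and_eq_true, bit, decide_eq_true_eq]
    constructor
    · intro hx
      have h := hOsub x hx
      rw [← cls_cover, has_clsSel, show Nat.testBit 15 0 = true from rfl,
        show Nat.testBit 15 1 = true from rfl, show Nat.testBit 15 2 = true from rfl,
        show Nat.testBit 15 3 = true from rfl] at h
      simp only [Bool.true_and, Bool.or_eq_true] at h
      rcases h with (((h | h) | h) | h) | h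
      · exact Or.inl (Or.inl (Or.inl (Or.inl h)))
      · exact Or.inl (Or.inl (Or.inl (Or.inr ⟨⟨x, hx, h⟩, h⟩)))
      · exact Or.inl (Or.inl (Or.inr ⟨⟨x, hx, h⟩, h⟩))
      · exact Or.inl (Or.inr ⟨⟨x, hx, h⟩, h⟩)
      · exact Or.inr ⟨⟨x, hx, h⟩, h⟩
    · rintro ((((h | ⟨⟨y, hy, e⟩, h⟩) | ⟨⟨y, hy, e⟩, h⟩) | ⟨⟨y, hy, e⟩, h⟩) | ⟨⟨y, hy, e⟩, h⟩)
      · obtain ⟨g, hg, rfl⟩ := scal_sedge h
        exact ⟨⟨g, h1 hg⟩, rfl⟩
      · exact move a1 b1 c0 hy e h
      · exact move a2 b2 c1 hy e h
      · exact move a3 b3 c2 hy e h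
      · exact move a4 b4 c3 hy e h
  haveI := finite_sub titsT
  haveI := finite_sub S
  have eS := card_orbit_mul S (baseI 1)
  have eT := titsT_point
  have hK : (S ⊓ MulAction.stabilizer fourRu (baseI 1) : Subgroup fourRu) =
      titsT ⊓ MulAction.stabilizer fourRu (baseI 1) := by
    refine le_antisymm (inf_le_inf_right _ h2) (le_inf (fun g hg => h1 (mem_lineT hg.1 ?_)) inf_le_right)
    rw [MulAction.mem_stabilizer_iff.1 hg.2]; exact base_line1
  rw [hK, eT.2] at eS
  have hdvd : O.ncard ∣ 7020 := by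
    have := Subgroup.card_dvd_of_le h2
    rw [← eS, card_titsT, show 17971200 = 7020 * 2560 by norm_num] at this
    exact Nat.dvd_of_mul_dvd_mul_right (by norm_num) this
  have hf16 : f < 16 := Nat.ofBits_lt_two_pow _
  have hn : O.ncard = cntB 6 (has (clsSel f)) 0 16240 := by rw [hO, maskSet_ncard' rfl]
  rcases cls_sizes ⟨f, hf16⟩ with h | h | h
  · left
    intro g hg
    refine mem_lineT (h2 hg) ?_
    have hgO : g • baseI 1 ∈ O := ⟨⟨g, hg⟩, rfl⟩
    rw [hO, show f = 0 from h] at hgO
    have : has (clsSel 0) (g • baseI 1 : Fin NV) = true := hgO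
    rw [has_clsSel] at this
    simpa [line1, maskSet] using this
  · right
    refine Subgroup.eq_of_le_of_card_ge h2 ?_
    rw [card_titsT, ← eS, hn, show f = 15 from h, cls_cover, cnt1_ok]
  · exact absurd (Nat.mod_eq_zero_of_dvd (hn ▸ hdvd)) h

theorem class_key_spec {y : Fin NV} (h : ∀ r : Fin 2, dotS (((tab 0)^[r.val]) 0) y = dotS (((tab 0)^[r.val]) 0) classRoot) :
    has orbC y = true := by
  have hc := allB_spec _ _ _ _ class_key y (Nat.zero_le _) (by have := y.isLt; show _ < 0 + NV; omega)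
  have h0 := h 0
  have h1 := h 1
  simp only [Fin.val_zero, Fin.val_one, Function.iterate_zero, id_eq, Function.iterate_one] at h0 h1
  simp only [classKey, h0, h1, decide_true, Bool.and_self, Bool.not_true, Bool.false_or] at hc
  exact hc

theorem dot_preserved {g : fourRu} {x y x' y' : Fin NV} (hx : g • x = x') (hy : g • y = y') :
    dotS x'.val y'.val = dotS x.val y.val := by
  rw [dotS_eq, dotS_eq, ← dot_vM, ← dot_vM]
  show RuLattice.dot (L x' : RuVec) (L y' : RuVec) = RuLattice.dot (L x : RuVec) (L y : RuVec)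
  rw [← hx, ← hy, L_smul, L_smul, smul_dot]

theorem dot_turn_turn (a z : Fin NV) : dotS (turn (turn a)).val z.val = -dotS a.val z.val := by
  rw [dotS_eq, dotS_eq, ← dot_vM, ← dot_vM]
  show RuLattice.dot (L (turn (turn a)) : RuVec) (L z : RuVec) = -RuLattice.dot (L a : RuVec) (L z : RuVec)
  have e : (L (turn (turn a)) : RuVec) = -(L a : RuVec) := by
    rw [turn, ← ruI_L, show ruI (L (turn a)) = ruI (ruI (L a)) by rw [turn, ← ruI_L]]
    show gI • gI • (L a : RuVec) = _
    rw [smul_smul, show gI * gI = -1 by ext <;> simp [gI], neg_smul, one_smul]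
  rw [e]
  simp [RuLattice.dot, RuLattice.rc_neg]

theorem prof_turn (a z : Fin NV) : prof (turn a).val z.val = prof a.val z.val := by
  have e : dotS (tab 0 (turn a).val) z.val = -dotS a.val z.val := dot_turn_turn a z
  rw [prof, prof, e]
  show dotS (tab 0 a.val) z.val * dotS (tab 0 a.val) z.val + _ = _
  ring

theorem prof_pow (a z : Fin NV) : ∀ e : ℕ, prof ((iElt ^ e) • a : Fin NV).val z.val = prof a.val z.val
  | 0 => by simp
  | e + 1 => by rw [pow_succ', mul_smul, iElt_smul, prof_turn, prof_pow a z e]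

/-- An element moving each vector of the orbit to a multiple of itself is trivial. -/
theorem orbit_scalar {n : fourRu} (hn : n ∈ stab 1)
    (h : ∀ x : Fin NV, has orb1 x = true → ∃ e : ℕ, n • x = (iElt ^ e) • x) : n = 1 := by
  have root : ∀ m : fourRu, m ∈ stab 1 → (∀ x : Fin NV, has orb1 x = true → ∃ e : ℕ, m • x = (iElt ^ e) • x) →
      m • (⟨classRoot, small_lists.2.2.2.2.2.2⟩ : Fin NV) = ⟨classRoot, small_lists.2.2.2.2.2.2⟩ := by
    intro m hm hm'
    set r : Fin NV := ⟨classRoot, small_lists.2.2.2.2.2.2⟩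
    set y := m • r with hy
    have hb : m • baseI 0 = baseI 0 := mem_stab.1 hm 0 (by norm_num)
    have b0 : (baseI 0).val = 0 := baseI_zero
    have hC : has orbC y = true := by
      refine class_key_spec fun e => ?_
      fin_cases e
      · simpa [b0] using dot_preserved hb hy.symm
      · have ht : m • turn (baseI 0) = turn (baseI 0) := by rw [smul_turn, hb]
        simpa [turn, b0] using dot_preserved ht hy.symm
    have hp := allB_spec _ _ _ _ prof_ok.1 y (Nat.zero_le _) (by have := y.isLt; show _ < 0 + NV; omega)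
    simp only [profOK, hC, Bool.not_true, Bool.false_or, Bool.or_eq_true, List.any_eq_true] at hp
    rcases hp with hp | ⟨a, ha, hne⟩
    · exact Fin.ext (Nat.eq_of_beq_eq_true hp)
    · exfalso
      have hao : has orb1 a = true := List.all_eq_true.1 prof_ok.2 a ha
      have halt : a < NV := by
        by_contra hc
        have hlt' : orb1 < 2 ^ 16240 := by decide +kernel
        rw [has_eq, Nat.testBit_lt_two_pow (lt_of_lt_of_le hlt'
          (Nat.pow_le_pow_right (by norm_num) (show 16240 ≤ a from not_lt.1 hc)))] at hao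
        exact Bool.noConfusion hao
      obtain ⟨e, he⟩ := hm' ⟨a, halt⟩ hao
      have e1 : prof ((iElt ^ e) • (⟨a, halt⟩ : Fin NV) : Fin NV).val y.val = prof a classRoot := by
        have ht : m • turn ⟨a, halt⟩ = turn ((iElt ^ e) • ⟨a, halt⟩) := by rw [smul_turn, he]
        have d1 := dot_preserved he hy.symm
        have d2 := dot_preserved ht hy.symm
        rw [prof, prof]
        simp only [turn] at d2
        rw [d1, d2]
      rw [prof_pow] at e1
      simp [e1] at hne
  refine scalar_eq_one (mem_stab.1 hn 0 (by norm_num)) fun x => ?_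
  have fin4 : ∀ e : ℕ, (iElt ^ e : fourRu) = iElt ^ (e % 4) := fun e => by
    conv_lhs => rw [← Nat.div_add_mod e 4, pow_add, pow_mul, iElt_pow_four, one_pow, one_mul]
  by_cases h4 : x.val < 4
  · obtain ⟨e, he⟩ : ∃ e : Fin 4, x.val = [0, 2, 1, 3].getD e.val 0 := by
      interval_cases x.val
      · exact ⟨0, rfl⟩
      · exact ⟨2, rfl⟩
      · exact ⟨1, rfl⟩
      · exact ⟨3, rfl⟩
    refine ⟨0, by norm_num, ?_⟩
    rw [pow_zero, one_smul, Fin.ext (he.trans (iElt_pow_idx e).symm), iElt_comm, mem_stab.1 hn 0 (by norm_num)]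
  by_cases h1 : has orb1 x = true
  · obtain ⟨e, he⟩ := h x h1
    exact ⟨e % 4, Nat.mod_lt _ (by norm_num), by rw [he, ← fin4]⟩
  · obtain ⟨e, he⟩ := to_class h4 (by simpa using h1)
    obtain ⟨g, hg, hgx⟩ := class_reach he
    have hm : g⁻¹ * n * g ∈ stab 1 := (stab 1).mul_mem ((stab 1).mul_mem ((stab 1).inv_mem hg) hn) hg
    have hfix := root _ hm fun z hz => by
      obtain ⟨f, hf⟩ := h (g • z) (orb1_smul hg hz)
      refine ⟨f, ?_⟩
      rw [mul_smul, mul_smul, hf, iElt_comm, inv_smul_smul]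
    rw [mul_smul, mul_smul, hgx, inv_smul_eq_iff, hgx, iElt_comm] at hfix
    refine ⟨0, by norm_num, ?_⟩
    rw [pow_zero, one_smul]
    exact MulAction.injective _ hfix

theorem lineT_card : Nat.card lineT = 10240 := by
  have e := card_orbit_mul lineT (baseI 1)
  have ho : MulAction.orbit lineT (baseI 1) = line1 := by
    refine Set.Subset.antisymm ?_ fun x hx => ?_
    · rintro _ ⟨g, rfl⟩; exact lineT_line g.2
    · obtain ⟨g, hg, he⟩ := scal_sedge hx
      exact ⟨⟨g, hg⟩, he⟩
  have hK : (lineT ⊓ MulAction.stabilizer fourRu (baseI 1) : Subgroup fourRu) =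
      titsT ⊓ MulAction.stabilizer fourRu (baseI 1) := by
    refine le_antisymm (inf_le_inf_right _ inf_le_left) (le_inf (fun g hg => mem_lineT hg.1 ?_) inf_le_right)
    rw [MulAction.mem_stabilizer_iff.1 hg.2]; exact base_line1
  rw [ho, hK, titsT_point.2] at e
  have h4 : line1.ncard = 4 := by
    refine maskSet_ncard' ?_
    have := cls_size_zero
    rwa [show clsSel 0 = scalM from by decide +kernel] at this
  rw [h4] at e
  omega

theorem tE_pow {a : ℕ} (ha : a < 2) : tE a ^ 13 = (1 : fourRu) := by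
  have e : tE a = wd (tWord.getD a []) := by interval_cases a <;> rfl
  refine eq_one_of_fixes fun j hj => Fin.ext ?_
  rw [e, wd_pow_val tWord_lt]
  exact tword_ok.2.2 ⟨a, ha⟩ ⟨j, hj⟩

theorem isSimple_titsT : IsSimpleGroup titsT := by
  haveI := finite_sub titsT
  haveI : Nontrivial titsT := Finite.one_lt_card_iff_nontrivial.1 (by rw [card_titsT]; norm_num)
  refine { eq_bot_or_eq_top_of_normal := fun N hN => ?_ }
  haveI := hN
  set Lg : Subgroup titsT := lineT.subgroupOf titsT
  have hsub : lineT ≤ titsT := inf_le_left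
  by_cases hle : N ≤ Lg
  · left
    rw [Subgroup.eq_bot_iff_forall]
    intro n hn
    refine Subtype.ext (orbit_scalar n.2.1 fun x hx => ?_)
    obtain ⟨u, hu, rfl⟩ : ∃ u ∈ titsT, u • baseI 1 = x :=
      ⟨uE x, tgen_le (uE_spec hx).1, (uE_spec hx).2.1⟩
    have hm : ((⟨u, hu⟩ : titsT)⁻¹ * n * ⟨u, hu⟩) ∈ N := hN.conj_mem' _ hn _
    obtain ⟨e, he⟩ := (line1_mem _).1 (lineT_line (Subgroup.mem_subgroupOf.1 (hle hm)))
    refine ⟨e, ?_⟩
    have := congrArg (fun y => u • y) he.symm
    simp only [Subgroup.coe_mul, Subgroup.coe_inv, mul_smul, smul_inv_smul] at this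
    rw [this, iElt_comm]
  · right
    set S := (N ⊔ Lg).map titsT.subtype
    have hS1 : lineT ≤ S := fun g hg => ⟨⟨g, hsub hg⟩, (le_sup_right : Lg ≤ N ⊔ Lg) (Subgroup.mem_subgroupOf.2 hg), rfl⟩
    have hS2 : S ≤ titsT := Subgroup.map_subtype_le _
    have htop : N ⊔ Lg = ⊤ := by
      rcases lineT_maximal hS1 hS2 with h | h
      · exact absurd (fun n hn => Subgroup.mem_subgroupOf.2
          (h ⟨n, (le_sup_left : N ≤ N ⊔ Lg) hn, rfl⟩)) hle
      · rw [eq_top_iff]
        intro g _
        obtain ⟨g', hg', e⟩ := (h.ge g.2 : (g : fourRu) ∈ S)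
        rwa [← Subtype.ext e]
    have hsurj : Function.Surjective ((QuotientGroup.mk' N).comp Lg.subtype) := by
      rw [← MonoidHom.range_eq_top, MonoidHom.range_comp, Subgroup.range_subtype]
      have := congrArg (Subgroup.map (QuotientGroup.mk' N)) htop
      rwa [Subgroup.map_sup, QuotientGroup.map_mk'_self, bot_sup_eq,
        Subgroup.map_top_of_surjective _ (QuotientGroup.mk'_surjective N)] at this
    have hd := Subgroup.card_dvd_of_surjective _ hsurj
    rw [Nat.card_congr (Subgroup.subgroupOfEquivOfLe hsub).toEquiv, lineT_card] at hd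
    have hmem : ∀ g : titsT, g ^ 13 = 1 → g ∈ N := fun g hg => by
      rw [← QuotientGroup.eq_one_iff, ← orderOf_eq_one_iff]
      refine Nat.dvd_one.1 ?_
      rw [show (1 : ℕ) = Nat.gcd 13 10240 by norm_num]
      refine Nat.dvd_gcd (orderOf_dvd_of_pow_eq_one ?_) ((orderOf_dvd_natCard _).trans hd)
      rw [← QuotientGroup.mk_pow, hg]; rfl
    have hgen : tgen ≤ N.map titsT.subtype := by
      rw [tgen, Subgroup.closure_le]
      rintro g (rfl | rfl)
      · exact ⟨⟨tE 0, tE_titsT (by norm_num)⟩, hmem _ (Subtype.ext (tE_pow (by norm_num))), rfl⟩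
      · exact ⟨⟨tE 1, tE_titsT (by norm_num)⟩, hmem _ (Subtype.ext (tE_pow (by norm_num))), rfl⟩
    rw [eq_top_iff]
    intro g _
    obtain ⟨g', hg', e⟩ := hgen (tgen_eq.ge g.2)
    rwa [← Subtype.ext e]

theorem isTits_titsT : Cfsg.IsTits titsT := ⟨isSimple_titsT, card_titsT⟩

end Cfsg.Agent.RuTits
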